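/-
p-reduced normal subgroups and the relative trace.
Main results (namespace `Cfsg.Agent.PReduced`):
* small facts on `Cfsg.pCore`, `Cfsg.omegaOne`, elementary abelian subgroups;
* `pMod p C N` : every element of `N` has a `p`-power in `C`; `eq_sup_sylow_inf_of_pMod`;
* `isPReducedNormal_iff`, `IsPReducedNormal.le_center_pCore`, `largestPReduced_isPReducedNormal`;
* `exists_trace_decomp`, `centralizes_of_fixed` : splitting of fixed points of a Sylow subgroup.
-/
import Cfsg.Agent.EqLemmas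

namespace Cfsg.Agent.PReduced

open Subgroup
open scoped commutatorElement

variable {G : Type*} [Group G] {p : ℕ}

/-! ### p-core -/

theorem pCore_normal (p : ℕ) (G : Type*) [Group G] : (Cfsg.pCore p G).Normal := by
  unfold Cfsg.pCore
  exact sSup_normal _ (fun N hN => hN.1)

theorem le_pCore {N : Subgroup G} (hN : N.Normal) (hp : IsPGroup p N) : N ≤ Cfsg.pCore p G :=
  le_sSup ⟨hN, hp⟩

theorem isPGroup_sSup_normal [Finite G] (s : Set (Subgroup G))
    (hs : ∀ N ∈ s, N.Normal ∧ IsPGroup p N) : IsPGroup p ↥(sSup s) := by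
  have key : (sSup s).Normal ∧ IsPGroup p ↥(sSup s) := by
    refine (Set.toFinite s).induction_on_subset s ?_ ?_
    · rw [sSup_empty]
      exact ⟨inferInstance, IsPGroup.of_bot⟩
    · intro N t hNs _ _ ih
      rw [sSup_insert]
      have := (hs N hNs).1
      have := ih.1
      exact ⟨inferInstance, (hs N hNs).2.to_sup_of_normal_left ih.2⟩
  exact key.2

theorem isPGroup_pCore [Finite G] (p : ℕ) : IsPGroup p ↥(Cfsg.pCore p G) :=
  isPGroup_sSup_normal _ fun _ h => h

theorem pCore_le_sylow [Finite G] [Fact p.Prime] (T : Sylow p G) :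
    Cfsg.pCore p G ≤ (T : Subgroup G) := by
  have := pCore_normal p G
  have h : IsPGroup p ↥((T : Subgroup G) ⊔ Cfsg.pCore p G) :=
    T.2.to_sup_of_normal_right (isPGroup_pCore p)
  exact le_sup_right.trans (T.3 h le_sup_left).le

/-! ### Elementary abelian subgroups and omega -/

theorem commute_of_isMulCommutative {A : Subgroup G} (hA : IsMulCommutative ↥A) {a b : G}
    (ha : a ∈ A) (hb : b ∈ A) : a * b = b * a :=
  congrArg Subtype.val (hA.is_comm.comm ⟨a, ha⟩ ⟨b, hb⟩)

theorem isMulCommutative_of_forall {A : Subgroup G}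
    (h : ∀ a ∈ A, ∀ b ∈ A, a * b = b * a) : IsMulCommutative ↥A :=
  ⟨⟨fun a b => Subtype.ext (h a a.2 b b.2)⟩⟩

theorem le_centralizer_of_isMulCommutative {A : Subgroup G} (hA : IsMulCommutative ↥A) :
    A ≤ centralizer (A : Set G) := fun _ ha _ hb => commute_of_isMulCommutative hA hb ha

theorem isElementaryAbelian_mono {A B : Subgroup G} (hA : Cfsg.IsElementaryAbelian p A)
    (h : B ≤ A) : Cfsg.IsElementaryAbelian p B :=
  ⟨isMulCommutative_of_forall fun _ ha _ hb => commute_of_isMulCommutative hA.1 (h ha) (h hb),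
    fun a ha => hA.2 a (h ha)⟩

theorem isPGroup_of_isElementaryAbelian {A : Subgroup G} (hA : Cfsg.IsElementaryAbelian p A) :
    IsPGroup p ↥A := fun a => ⟨1, Subtype.ext (by simpa using hA.2 a a.2)⟩

theorem omegaOne_le (p : ℕ) (H : Subgroup G) : Cfsg.omegaOne p H ≤ H :=
  (closure_le _).2 fun _ h => h.1

theorem mem_omegaOne {H : Subgroup G} {x : G} (hx : x ∈ H) (hxp : x ^ p = 1) :
    x ∈ Cfsg.omegaOne p H := subset_closure ⟨hx, hxp⟩

theorem omegaOne_mono {A B : Subgroup G} (h : A ≤ B) : Cfsg.omegaOne p A ≤ Cfsg.omegaOne p B :=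
  closure_mono fun _ hx => ⟨h hx.1, hx.2⟩

theorem omegaOne_isElementaryAbelian {H : Subgroup G}
    (hH : ∀ a ∈ H, ∀ b ∈ H, a * b = b * a) : Cfsg.IsElementaryAbelian p (Cfsg.omegaOne p H) := by
  refine ⟨isMulCommutative_of_forall fun a ha b hb =>
    hH a (omegaOne_le p H ha) b (omegaOne_le p H hb), fun a ha => ?_⟩
  induction ha using Subgroup.closure_induction with
  | mem x hx => exact hx.2
  | one => exact one_pow p
  | mul x y hx hy ihx ihy =>
    rw [Commute.mul_pow (hH x (omegaOne_le p H hx) y (omegaOne_le p H hy)), ihx, ihy, one_mul]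
  | inv x _ ih => rw [inv_pow, ih, inv_one]

theorem center_commute (T : Subgroup G) :
    ∀ a ∈ T ⊓ centralizer (T : Set G), ∀ b ∈ T ⊓ centralizer (T : Set G), a * b = b * a :=
  fun _ ha _ hb => hb.2 _ ha.1

/-- `Ω₁(Z(T))`, membership. -/
theorem mem_omegaOne_center {T : Subgroup G} {x : G} :
    x ∈ Cfsg.omegaOne p (T ⊓ centralizer (T : Set G)) ↔
      (x ∈ T ∧ (∀ t ∈ T, t * x = x * t) ∧ x ^ p = 1) := by
  constructor
  · intro hx
    exact ⟨(omegaOne_le p _ hx).1, (omegaOne_le p _ hx).2,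
      (omegaOne_isElementaryAbelian (center_commute T)).2 x hx⟩
  · rintro ⟨h1, h2, h3⟩
    exact mem_omegaOne ⟨h1, h2⟩ h3

theorem map_subtype_centralizer {K : Subgroup G} (V : Subgroup ↥K) :
    (centralizer (V : Set ↥K)).map K.subtype = K ⊓ centralizer ((V.map K.subtype) : Set G) := by
  ext x
  constructor
  · rintro ⟨x, hx, rfl⟩
    refine ⟨x.2, ?_⟩
    rintro _ ⟨v, hv, rfl⟩
    exact congrArg Subtype.val (hx v hv)
  · rintro ⟨hxK, hx⟩
    exact ⟨⟨x, hxK⟩, fun v hv => Subtype.ext (hx _ ⟨v, hv, rfl⟩), rfl⟩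

/-! ### `p`-sections -/

/-- Every element of `N` has a power with exponent a power of `p` in `C`. -/
def pMod (p : ℕ) (C N : Subgroup G) : Prop := ∀ x ∈ N, ∃ k : ℕ, x ^ p ^ k ∈ C

theorem pMod.mono {C C' N N' : Subgroup G} (h : pMod p C N) (hC : C ≤ C') (hN : N' ≤ N) :
    pMod p C' N' := fun x hx => (h x (hN hx)).imp fun _ hk => hC hk

theorem pMod_of_isPGroup {C N : Subgroup G} (h : IsPGroup p ↥N) : pMod p C N := fun x hx =>
  (h ⟨x, hx⟩).imp fun k hk => by
    have := congrArg Subtype.val hk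
    simp only [SubgroupClass.coe_pow, OneMemClass.coe_one] at this
    rw [this]; exact one_mem _

theorem isPGroup_map_mk_iff {C N : Subgroup G} [C.Normal] :
    IsPGroup p ↥(N.map (QuotientGroup.mk' C)) ↔ pMod p C N := by
  constructor
  · intro h x hx
    obtain ⟨k, hk⟩ := h ⟨_, mem_map_of_mem _ hx⟩
    refine ⟨k, (QuotientGroup.eq_one_iff _).1 ?_⟩
    simpa [Subtype.ext_iff] using hk
  · rintro h ⟨_, x, hx, rfl⟩
    obtain ⟨k, hk⟩ := h x hx
    refine ⟨k, ?_⟩
    have : ((x ^ p ^ k : G) : G ⧸ C) = 1 := (QuotientGroup.eq_one_iff _).2 hk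
    simpa [Subtype.ext_iff] using this

theorem pCore_quotient_eq_bot_iff [Finite G] (C : Subgroup G) [C.Normal] :
    Cfsg.pCore p (G ⧸ C) = ⊥ ↔ ∀ N : Subgroup G, N.Normal → pMod p C N → N ≤ C := by
  constructor
  · intro h N hN hmod
    have h1 : N.map (QuotientGroup.mk' C) ≤ Cfsg.pCore p (G ⧸ C) :=
      le_pCore (hN.map _ (QuotientGroup.mk'_surjective C)) (isPGroup_map_mk_iff.2 hmod)
    rw [h, le_bot_iff, Subgroup.map_eq_bot_iff, QuotientGroup.ker_mk'] at h1
    exact h1
  · intro h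
    set P := Cfsg.pCore p (G ⧸ C)
    have hn : P.Normal := pCore_normal p _
    have hmap : (P.comap (QuotientGroup.mk' C)).map (QuotientGroup.mk' C) = P :=
      map_comap_eq_self_of_surjective (QuotientGroup.mk'_surjective C) P
    have h1 := h (P.comap (QuotientGroup.mk' C)) (hn.comap _)
      (isPGroup_map_mk_iff.1 (by rw [hmap]; exact isPGroup_pCore p))
    rw [← hmap, Subgroup.map_eq_bot_iff, QuotientGroup.ker_mk']
    exact h1

theorem relIndex_dvd_index_of_right_normal [Finite G] (T N : Subgroup G) [N.Normal] :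
    T.relIndex N ∣ T.index := by
  have key : T.relIndex N = T.relIndex (T ⊔ N) := by
    have e1 := relIndex_mul_relIndex (T ⊓ N) T (T ⊔ N) inf_le_left le_sup_left
    have e2 := relIndex_mul_relIndex (T ⊓ N) N (T ⊔ N) inf_le_right le_sup_right
    rw [inf_relIndex_right] at e2
    rw [inf_relIndex_left] at e1
    rw [relIndex_sup_right T N] at e2
    rw [← e2, mul_comm (T.relIndex N)] at e1
    exact (Nat.eq_of_mul_eq_mul_left (Nat.pos_of_ne_zero index_ne_zero_of_finite) e1).symm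
  rw [key]
  exact relIndex_dvd_index_of_le le_sup_left

theorem sylow_relIndex_coprime [Finite G] [Fact p.Prime] (T : Sylow p G) (N : Subgroup G)
    [N.Normal] : Nat.Coprime ((T : Subgroup G).relIndex N) p := by
  have h : Nat.Coprime (T : Subgroup G).index p :=
    ((Fact.out : p.Prime).coprime_iff_not_dvd.2 T.not_dvd_index).symm
  exact Nat.Coprime.coprime_dvd_left (relIndex_dvd_index_of_right_normal _ _) h

theorem eq_sup_sylow_inf_of_pMod [Finite G] [Fact p.Prime] (T : Sylow p G) {C N : Subgroup G}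
    [C.Normal] [N.Normal] (hCN : C ≤ N) (h : pMod p C N) : N = C ⊔ ((T : Subgroup G) ⊓ N) := by
  refine le_antisymm ?_ (sup_le hCN inf_le_right)
  rw [← relIndex_eq_one]
  refine Nat.Coprime.eq_one_of_dvd ?_ (dvd_refl _)
  have hM : C ⊔ ((T : Subgroup G) ⊓ N) ≤ N := sup_le hCN inf_le_right
  have d1 : (C ⊔ ((T : Subgroup G) ⊓ N)).relIndex N ∣ (T : Subgroup G).relIndex N := by
    rw [← inf_relIndex_right (T : Subgroup G) N]
    exact relIndex_dvd_of_le_left _ le_sup_right
  have d2 : (C ⊔ ((T : Subgroup G) ⊓ N)).relIndex N ∣ C.relIndex N :=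
    relIndex_dvd_of_le_left _ le_sup_left
  have hpow : ∃ n, C.relIndex N = p ^ n := by
    have hq : IsPGroup p (↥N ⧸ C.subgroupOf N) := by
      intro q
      induction q using QuotientGroup.induction_on with
      | H x =>
        obtain ⟨k, hk⟩ := h x x.2
        refine ⟨k, ?_⟩
        rw [← QuotientGroup.mk_pow, QuotientGroup.eq_one_iff]
        simpa [mem_subgroupOf] using hk
    exact IsPGroup.iff_card.1 hq
  obtain ⟨n, hn⟩ := hpow
  rw [hn] at d2
  exact Nat.Coprime.coprime_dvd_left d1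
    (Nat.Coprime.coprime_dvd_right d2 (Nat.Coprime.pow_right n (sylow_relIndex_coprime T N)))

/-! ### p-reduced normal subgroups -/

theorem isPReducedNormal_iff [Finite G] {V : Subgroup G} :
    Cfsg.IsPReducedNormal p V ↔ V.Normal ∧ Cfsg.IsElementaryAbelian p V ∧
      ∀ N : Subgroup G, N.Normal → pMod p (centralizer (V : Set G)) N →
        N ≤ centralizer (V : Set G) := by
  constructor
  · rintro ⟨h1, h2, hn, h3⟩
    exact ⟨h1, h2, (pCore_quotient_eq_bot_iff _).1 h3⟩
  · rintro ⟨h1, h2, h3⟩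
    exact ⟨h1, h2, normal_centralizer, (pCore_quotient_eq_bot_iff _).2 h3⟩

theorem isPReducedNormal_centralizes [Finite G] {V N : Subgroup G}
    (hV : Cfsg.IsPReducedNormal p V) (hN : N.Normal) (hp : IsPGroup p ↥N) :
    N ≤ centralizer (V : Set G) :=
  (isPReducedNormal_iff.1 hV).2.2 N hN (pMod_of_isPGroup hp)

theorem isPReducedNormal_le_center_pCore [Finite G] {V : Subgroup G}
    (hV : Cfsg.IsPReducedNormal p V) :
    V ≤ Cfsg.omegaOne p (Cfsg.pCore p G ⊓ centralizer (Cfsg.pCore p G : Set G)) := by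
  intro v hv
  exact mem_omegaOne ⟨le_pCore hV.1 (isPGroup_of_isElementaryAbelian hV.2.1) hv,
    fun w hw => (isPReducedNormal_centralizes hV (pCore_normal p G) (isPGroup_pCore p) hw v hv).symm⟩
    (hV.2.1.2 v hv)

theorem largestPReduced_isPReducedNormal [Finite G] (p : ℕ) :
    Cfsg.IsPReducedNormal p (Cfsg.largestPReduced p G) := by
  rw [isPReducedNormal_iff]
  refine ⟨sSup_normal _ (fun V hV => hV.1), ?_, ?_⟩
  · exact isElementaryAbelian_mono (omegaOne_isElementaryAbelian (center_commute _))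
      (sSup_le fun V hV => isPReducedNormal_le_center_pCore hV)
  · intro N hN hmod
    have hle : ∀ V : Subgroup G, Cfsg.IsPReducedNormal p V → V ≤ centralizer (N : Set G) := by
      intro V hV
      have h := (isPReducedNormal_iff.1 hV).2.2 N hN
        (hmod.mono (centralizer_le (SetLike.coe_subset_coe.2 (le_sSup hV))) le_rfl)
      exact (le_centralizer_iff).1 h
    exact (le_centralizer_iff).1 (sSup_le hle)

theorem le_largestPReduced {V : Subgroup G} (hV : Cfsg.IsPReducedNormal p V) :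
    V ≤ Cfsg.largestPReduced p G := le_sSup hV

theorem largest_unique [Finite G] {Y : Subgroup G} (hY : Cfsg.IsPReducedNormal p Y ∧
    ∀ V : Subgroup G, Cfsg.IsPReducedNormal p V → V ≤ Y) : Y = Cfsg.largestPReduced p G :=
  le_antisymm (le_largestPReduced hY.1) (sSup_le hY.2)

/-! ### The relative trace -/

section Trace

variable {W X : Type*} [CommGroup W] [Group X]

/-- The product of the translates of `w` over representatives of the cosets of `S`. -/
noncomputable def trace (φ : X →* MulAut W) (S : Subgroup X) [Fintype (X ⧸ S)] (w : W) : W :=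
  ∏ q : X ⧸ S, φ q.out w

variable (φ : X →* MulAut W) (S : Subgroup X) [Fintype (X ⧸ S)]

theorem trace_mul (v w : W) : trace φ S (v * w) = trace φ S v * trace φ S w := by
  simp [trace, Finset.prod_mul_distrib]

theorem apply_out {w : W} (hw : ∀ s ∈ S, φ s w = w) (x : X) :
    φ (QuotientGroup.mk x : X ⧸ S).out w = φ x w := by
  obtain ⟨s, hs⟩ := QuotientGroup.mk_out_eq_mul S x
  rw [hs, map_mul, MulAut.mul_apply, hw s s.2]

theorem trace_fixed {w : W} (hw : ∀ s ∈ S, φ s w = w) (x : X) :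
    φ x (trace φ S w) = trace φ S w := by
  rw [trace, map_prod]
  refine Fintype.prod_equiv (MulAction.toPerm x) _ _ fun q => ?_
  induction q using QuotientGroup.induction_on with
  | H y =>
    change φ x (φ _ w) = φ (x • (QuotientGroup.mk y : X ⧸ S)).out w
    rw [MulAction.Quotient.smul_mk, apply_out φ S hw, apply_out φ S hw, smul_eq_mul, map_mul,
      MulAut.mul_apply]

theorem trace_of_fixed {w : W} (hw : ∀ x, φ x w = w) : trace φ S w = w ^ S.index := by
  simp [trace, hw, Subgroup.index_eq_card, Nat.card_eq_fintype_card]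

theorem trace_div_mem (Z : Subgroup W) {w : W} (hZ : ∀ x, φ x w / w ∈ Z) :
    trace φ S w / w ^ S.index ∈ Z := by
  have : trace φ S w / w ^ S.index = ∏ q : X ⧸ S, φ q.out w / w := by
    rw [Finset.prod_div_distrib]
    simp [trace, Subgroup.index_eq_card, Nat.card_eq_fintype_card]
  rw [this]
  exact Subgroup.prod_mem _ fun q _ => hZ _

theorem trace_equivariant (σ : W ≃* W) (τ : X ≃* X) (hS : ∀ x, x ∈ S ↔ τ x ∈ S)
    (h : ∀ x w, σ (φ x w) = φ (τ x) (σ w)) {w : W} (hw : ∀ s ∈ S, φ s w = w) :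
    trace φ S (σ w) = σ (trace φ S w) := by
  have hσw : ∀ s ∈ S, φ s (σ w) = σ w := by
    intro s hs
    obtain ⟨t, rfl⟩ := τ.surjective s
    rw [← h, hw t ((hS t).2 hs)]
  rw [trace, trace, map_prod]
  let e : X ⧸ S ≃ X ⧸ S := Quotient.congr τ.toEquiv fun a b => by
    simp only [QuotientGroup.leftRel_apply, MulEquiv.toEquiv_eq_coe, EquivLike.coe_coe]
    rw [hS, map_mul, map_inv]
  refine (Fintype.prod_equiv e _ _ fun q => ?_).symm
  induction q using QuotientGroup.induction_on with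
  | H y =>
    change σ (φ _ w) = φ (QuotientGroup.mk (τ y) : X ⧸ S).out (σ w)
    rw [apply_out φ S hw, apply_out φ S hσw, h]

end Trace

/-- Fixed points of a subgroup `S` of coprime index split off the fixed points of `X`. -/
theorem exists_trace_decomp [Finite G] {W X S : Subgroup G} (hW : Cfsg.IsElementaryAbelian p W)
    (hXW : X ≤ normalizer (W : Set G)) (hSX : S ≤ X) (hco : (S.relIndex X).Coprime p)
    {w : G} (hw : w ∈ W) (hwS : ∀ s ∈ S, s * w = w * s) :
    ∃ a k : G, a ∈ W ∧ (∀ x ∈ X, x * a = a * x) ∧ k ∈ W ∧ (∀ s ∈ S, s * k = k * s) ∧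
      k ∈ closure {c : G | ∃ x ∈ X, c = x * w * x⁻¹ * w⁻¹} ∧ w = a * k := by
  classical
  letI : CommGroup ↥W := { (inferInstance : Group ↥W) with mul_comm := hW.1.is_comm.comm }
  let φ : ↥X →* MulAut ↥W := W.normalizerMonoidHom.comp (inclusion hXW)
  have hφ : ∀ (x : ↥X) (v : ↥W), ((φ x v : ↥W) : G) = x * v * (x : G)⁻¹ := fun _ _ => rfl
  let S' := S.subgroupOf X
  haveI : Fintype (↥X ⧸ S') := Fintype.ofFinite _
  let w' : ↥W := ⟨w, hw⟩
  have hw' : ∀ s ∈ S', φ s w' = w' := by
    intro s hs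
    refine Subtype.ext ?_
    rw [hφ]
    show (s : G) * w * (s : G)⁻¹ = w
    rw [show (s : G) * w = w * s from hwS _ hs, mul_inv_cancel_right]
  obtain ⟨n, hn⟩ : ∃ n : ℕ, w' ^ (S'.index * n) = w' := by
    have h1 : (orderOf w').Coprime S'.index := by
      refine Nat.Coprime.coprime_dvd_left (orderOf_dvd_of_pow_eq_one ?_) hco.symm
      exact Subtype.ext (hW.2 w hw)
    obtain ⟨n, hn⟩ := exists_pow_eq_self_of_coprime h1.symm
    exact ⟨n, by rw [pow_mul]; exact hn⟩
  let a : ↥W := trace φ S' w' ^ n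
  have ha : ∀ x : ↥X, φ x a = a := fun x => by
    show φ x (trace φ S' w' ^ n) = _
    rw [map_pow, trace_fixed φ S' hw']
  have haG : ∀ x ∈ X, x * (a : G) = a * x := by
    intro x hx
    have h2 : x * (a : G) * x⁻¹ = a := congrArg Subtype.val (ha ⟨x, hx⟩)
    exact mul_inv_eq_iff_eq_mul.1 h2
  refine ⟨a, ((a⁻¹ * w' : ↥W) : G), a.2, haG, Subtype.coe_prop _, ?_, ?_, ?_⟩
  · intro s hs
    have c1 : Commute s (a : G) := haG s (hSX hs)
    have c2 : Commute s w := hwS s hs
    exact (c1.inv_right.mul_right c2)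
  · let Z : Subgroup ↥W := (closure {c : G | ∃ x ∈ X, c = x * w * x⁻¹ * w⁻¹}).comap W.subtype
    have hZ : trace φ S' w' / w' ^ S'.index ∈ Z := by
      refine trace_div_mem φ S' Z fun x => subset_closure ⟨x, x.2, ?_⟩
      rw [div_eq_mul_inv]
      rfl
    have h3 : a⁻¹ * w' = ((trace φ S' w' / w' ^ S'.index) ^ n)⁻¹ := by
      rw [div_pow, ← pow_mul, hn, inv_div, div_eq_mul_inv, mul_comm]
    show a⁻¹ * w' ∈ Z
    rw [h3]
    exact inv_mem (pow_mem hZ n)
  · show w = (a : G) * ((a : G)⁻¹ * w)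
    rw [mul_inv_cancel_left]

/-- If a `p`-group `T` normalises `W`, `X`, `S` and every common fixed point of `S` and `T` in `W`
is fixed by `X`, then every fixed point of `S` is fixed by `X`. -/
theorem centralizes_of_fixed [Finite G] [Fact p.Prime] {W X S T : Subgroup G}
    (hW : Cfsg.IsElementaryAbelian p W) (hXW : X ≤ normalizer (W : Set G)) (hSX : S ≤ X)
    (hco : (S.relIndex X).Coprime p) (hT : IsPGroup p ↥T) (hTW : T ≤ normalizer (W : Set G))
    (hTX : T ≤ normalizer (X : Set G)) (hTS : T ≤ normalizer (S : Set G))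
    (h : ∀ w ∈ W, (∀ s ∈ S, s * w = w * s) → (∀ t ∈ T, t * w = w * t) → ∀ x ∈ X, x * w = w * x) :
    ∀ w ∈ W, (∀ s ∈ S, s * w = w * s) → ∀ x ∈ X, x * w = w * x := by
  classical
  letI : CommGroup ↥W := { (inferInstance : Group ↥W) with mul_comm := hW.1.is_comm.comm }
  let φ : ↥X →* MulAut ↥W := W.normalizerMonoidHom.comp (inclusion hXW)
  let S' := S.subgroupOf X
  haveI : Fintype (↥X ⧸ S') := Fintype.ofFinite _
  let ψ : ↥T →* MulAut ↥W := W.normalizerMonoidHom.comp (inclusion hTW)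
  let χ : ↥T →* MulAut ↥X := X.normalizerMonoidHom.comp (inclusion hTX)
  have hψχ : ∀ (t : ↥T) x v, ψ t (φ x v) = φ (χ t x) (ψ t v) := by
    intro t x v
    refine Subtype.ext ?_
    show (t : G) * ((x : G) * v * (x : G)⁻¹) * (t : G)⁻¹ =
      ((t : G) * x * (t : G)⁻¹) * ((t : G) * v * (t : G)⁻¹) * ((t : G) * x * (t : G)⁻¹)⁻¹
    group
  have hS' : ∀ (t : ↥T) (x : ↥X), x ∈ S' ↔ χ t x ∈ S' := fun t x =>
    mem_normalizer_iff.1 (hTS t.2) x
  have hfix : ∀ v : ↥W, (∀ s ∈ S', φ s v = v) ↔ ∀ s ∈ S, s * (v : G) = v * s := by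
    intro v
    constructor
    · intro hv s hs
      exact mul_inv_eq_iff_eq_mul.1 (congrArg Subtype.val (hv ⟨s, hSX hs⟩ hs))
    · intro hv s hs
      exact Subtype.ext (mul_inv_eq_iff_eq_mul.2 (hv _ hs))
  -- the kernel of the trace on the fixed points of `S`
  let K : Subgroup ↥W :=
    { carrier := {v | (∀ s ∈ S', φ s v = v) ∧ trace φ S' v = 1}
      one_mem' := ⟨fun s _ => map_one _, by simp [trace]⟩
      mul_mem' := fun {u v} hu hv => ⟨fun s hs => by rw [map_mul, hu.1 s hs, hv.1 s hs],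
        by rw [trace_mul, hu.2, hv.2, one_mul]⟩
      inv_mem' := fun {v} hv => ⟨fun s hs => by rw [map_inv, hv.1 s hs], by
        have h1 := trace_mul φ S' v v⁻¹
        rw [mul_inv_cancel, hv.2, one_mul] at h1
        rw [← h1]; simp [trace]⟩ }
  have hK : ∀ (t : ↥T), ∀ v ∈ K, ψ t v ∈ K := by
    intro t v hv
    refine ⟨fun s hs => ?_, ?_⟩
    · obtain ⟨s', rfl⟩ := (χ t).surjective s
      rw [← hψχ, hv.1 s' ((hS' t s').2 hs)]
    · rw [trace_equivariant φ S' (ψ t) (χ t) (hS' t) (hψχ t) hv.1, hv.2, map_one]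
  have hpow : ∀ v : ↥W, (∀ s ∈ S', φ s v = v) → (∀ x, φ x v = v) → trace φ S' v = 1 → v = 1 := by
    intro v _ hv htr
    rw [trace_of_fixed φ S' hv] at htr
    have hp1 : v ^ p = 1 := Subtype.ext (hW.2 _ v.2)
    have hd : orderOf v ∣ Nat.gcd S'.index p :=
      Nat.dvd_gcd (orderOf_dvd_of_pow_eq_one htr) (orderOf_dvd_of_pow_eq_one hp1)
    rw [show Nat.gcd S'.index p = 1 from hco, Nat.dvd_one] at hd
    exact orderOf_eq_one_iff.1 hd
  have hKbot : K = ⊥ := by
    by_contra hne
    have hpK : IsPGroup p ↥K :=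
      IsPGroup.to_subgroup (isPGroup_of_isElementaryAbelian hW) K
    have hdvd : p ∣ Nat.card ↥K := by
      rcases hpK.card_eq_or_dvd with h1 | h1
      · exact absurd (card_eq_one.1 h1) hne
      · exact h1
    letI : MulAction ↥T ↥K :=
      { smul := fun t v => ⟨ψ t v, hK t v v.2⟩
        one_smul := fun v => Subtype.ext (by show ψ 1 (v : ↥W) = v; rw [map_one]; rfl)
        mul_smul := fun t u v => Subtype.ext (by
          show ψ (t * u) (v : ↥W) = ψ t (ψ u v); rw [map_mul]; rfl) }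
    have h1 : (1 : ↥K) ∈ MulAction.fixedPoints ↥T ↥K := fun t => Subtype.ext (map_one (ψ t))
    obtain ⟨b, hb, hb1⟩ := hT.exists_fixed_point_of_prime_dvd_card_of_fixed_point ↥K hdvd h1
    have hbS := (hfix (b : ↥W)).1 b.2.1
    have hbT : ∀ t ∈ T, t * ((b : ↥W) : G) = (b : ↥W) * t := by
      intro t ht
      have := congrArg (fun c : ↥K => ((c : ↥W) : G)) (hb ⟨t, ht⟩)
      exact mul_inv_eq_iff_eq_mul.1 this
    refine hb1 (Subtype.ext (hpow (b : ↥W) b.2.1 (fun x => Subtype.ext ?_) b.2.2).symm)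
    exact mul_inv_eq_iff_eq_mul.2 (h _ (Subtype.coe_prop _) hbS hbT x x.2)
  intro w hw hwS
  let w' : ↥W := ⟨w, hw⟩
  have hw' : ∀ s ∈ S', φ s w' = w' := (hfix w').2 hwS
  obtain ⟨n, hn⟩ : ∃ n : ℕ, (w' ^ S'.index) ^ n = w' := by
    have h1 : (orderOf w').Coprime S'.index :=
      Nat.Coprime.coprime_dvd_left (orderOf_dvd_of_pow_eq_one (Subtype.ext (hW.2 w hw))) hco.symm
    exact exists_pow_eq_self_of_coprime h1.symm
  let b := trace φ S' w'
  have hb : ∀ x, φ x b = b := trace_fixed φ S' hw'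
  have hmem : w' ^ S'.index / b ∈ K := by
    refine ⟨fun s hs => by rw [map_div, map_pow, hw' s hs, hb], ?_⟩
    have hpw : ∀ m : ℕ, trace φ S' (w' ^ m) = b ^ m := by
      intro m
      induction m with
      | zero => simp [trace]
      | succ m ih => rw [pow_succ, trace_mul, ih, pow_succ]
    have h1 := trace_mul φ S' (w' ^ S'.index / b) b
    rw [div_mul_cancel, hpw, trace_of_fixed φ S' hb] at h1
    exact mul_eq_right.1 h1.symm
  rw [hKbot, mem_bot, div_eq_one] at hmem
  intro x hx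
  have hwb : w' = b ^ n := by rw [← hmem, hn]
  have h2 : φ ⟨x, hx⟩ w' = w' := by rw [hwb, map_pow, hb]
  exact mul_inv_eq_iff_eq_mul.1 (congrArg Subtype.val h2)

end Cfsg.Agent.PReduced
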