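/-
Tools used with `p`-reduced subgroups: Frattini argument, Sylow intersections with subnormal
subgroups, `O^p` basics, subnormal `p`-subgroups, characteristic `p` for normal subgroups.
-/
import Cfsg.Agent.Lib.PReduced.Basic

namespace Cfsg.Agent.PReduced

open Subgroup
open scoped commutatorElement

variable {G : Type*} [Group G] {p : ℕ}

theorem omegaOne_normal {A : Subgroup G} (hA : A.Normal) (p : ℕ) : (Cfsg.omegaOne p A).Normal := by
  refine ⟨fun x hx g => ?_⟩
  have hle : Cfsg.omegaOne p A ≤ (Cfsg.omegaOne p A).comap (MulAut.conj g).toMonoidHom := by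
    refine (closure_le _).2 fun y hy => mem_omegaOne (hA.conj_mem y hy.1 g) ?_
    show (g * y * g⁻¹) ^ p = 1
    rw [conj_pow, hy.2, mul_one, mul_inv_cancel]
  exact hle hx

theorem pResidual_normal (p : ℕ) (G : Type*) [Group G] : (Cfsg.pResidual p G).Normal := by
  refine ⟨fun x hx g => ?_⟩
  have hle : Cfsg.pResidual p G ≤ (Cfsg.pResidual p G).comap (MulAut.conj g).toMonoidHom := by
    refine (closure_le _).2 fun y hy => subset_closure ?_
    show Nat.Coprime (orderOf (MulAut.conj g y)) p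
    rw [MulEquiv.orderOf_eq]
    exact hy
  exact hle hx

theorem pMod_pResidual [Finite G] [Fact p.Prime] (N : Subgroup G) :
    pMod p (Cfsg.pResidual p G) N := by
  intro x _
  refine ⟨(orderOf x).factorization p, subset_closure ?_⟩
  show Nat.Coprime (orderOf (x ^ p ^ _)) p
  rw [orderOf_pow_of_dvd (pow_ne_zero _ (Fact.out : p.Prime).ne_zero) (Nat.ordProj_dvd _ _)]
  exact (Nat.coprime_ordCompl (Fact.out : p.Prime) (orderOf_pos x).ne').symm

theorem pResidual_sup_sylow [Finite G] [Fact p.Prime] (T : Sylow p G) :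
    Cfsg.pResidual p G ⊔ (T : Subgroup G) = ⊤ := by
  have := pResidual_normal p G
  have h := eq_sup_sylow_inf_of_pMod T (le_top : Cfsg.pResidual p G ≤ ⊤) (pMod_pResidual _)
  rw [inf_top_eq] at h
  exact h.symm

theorem exists_eq_mul_of_pResidual [Finite G] [Fact p.Prime] (T : Sylow p G) (x : G) :
    ∃ r ∈ Cfsg.pResidual p G, ∃ t ∈ (T : Subgroup G), x = r * t := by
  have hx : x ∈ ((Cfsg.pResidual p G ⊔ (T : Subgroup G) : Subgroup G) : Set G) := by
    rw [pResidual_sup_sylow T]; trivial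
  have := pResidual_normal p G
  rw [normal_mul] at hx
  obtain ⟨r, hr, t, ht, rfl⟩ := Set.mem_mul.1 hx
  exact ⟨r, hr, t, ht, rfl⟩

/-- The intersection of a Sylow subgroup with a subnormal subgroup has index prime to `p`. -/
theorem sylow_relIndex_coprime_subnormal [Finite G] [Fact p.Prime] (T : Sylow p G)
    {L : Subgroup G} (hL : L.IsSubnormal) : ((T : Subgroup G).relIndex L).Coprime p := by
  induction hL with
  | top =>
    rw [relIndex_top_right]
    exact ((Fact.out : p.Prime).coprime_iff_not_dvd.2 T.not_dvd_index).symm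
  | step A B hle _ hN ih =>
    have hdvd : ((T : Subgroup G).subgroupOf B).relIndex (A.subgroupOf B) ∣
        ((T : Subgroup G).subgroupOf B).index := by
      have := hN
      exact relIndex_dvd_index_of_right_normal _ _
    rw [relIndex_subgroupOf hle] at hdvd
    exact Nat.Coprime.coprime_dvd_left hdvd ih

/-- The Sylow subgroup `T ∩ K` of a subnormal subgroup `K`. -/
noncomputable def sylowOfSubnormal [Finite G] [Fact p.Prime] (T : Sylow p G) {K : Subgroup G}
    (hK : K.IsSubnormal) : Sylow p ↥K :=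
  IsPGroup.toSylow (IsPGroup.comap_subtype T.2)
    ((Fact.out : p.Prime).coprime_iff_not_dvd.1 (sylow_relIndex_coprime_subnormal T hK).symm)

theorem sylowOfSubnormal_coe [Finite G] [Fact p.Prime] (T : Sylow p G) {K : Subgroup G}
    (hK : K.IsSubnormal) :
    (sylowOfSubnormal T hK : Subgroup ↥K) = (T : Subgroup G).subgroupOf K := rfl

/-- Frattini argument with the Sylow subgroup `T ∩ N` of a normal subgroup `N`. -/
theorem frattini_sylow_inf [Finite G] [Fact p.Prime] (T : Sylow p G) (N : Subgroup G) [N.Normal] :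
    normalizer (((T : Subgroup G) ⊓ N : Subgroup G) : Set G) ⊔ N = ⊤ := by
  have h := Sylow.normalizer_sup_eq_top (sylowOfSubnormal T (Normal.isSubnormal ‹N.Normal›))
  rw [sylowOfSubnormal_coe, subgroupOf_map_subtype] at h
  exact h

theorem frattini_sylow_inf_mul [Finite G] [Fact p.Prime] (T : Sylow p G) (N : Subgroup G)
    [N.Normal] (g : G) :
    ∃ a ∈ normalizer (((T : Subgroup G) ⊓ N : Subgroup G) : Set G), ∃ c ∈ N, g = a * c := by
  have hg : g ∈ ((normalizer (((T : Subgroup G) ⊓ N : Subgroup G) : Set G) ⊔ N : Subgroup G) :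
      Set G) := by
    rw [frattini_sylow_inf]; trivial
  rw [mul_normal] at hg
  obtain ⟨a, ha, c, hc, rfl⟩ := Set.mem_mul.1 hg
  exact ⟨a, ha, c, hc, rfl⟩

theorem pCore_map_subtype_normal {K : Subgroup G} (hK : K.Normal) (p : ℕ) :
    ((Cfsg.pCore p ↥K).map K.subtype).Normal := by
  refine ⟨fun x hx g => ?_⟩
  obtain ⟨y, hy, rfl⟩ := hx
  let e : ↥K →* ↥K := (MulAut.conjNormal (H := K) g).toMonoidHom
  have hsurj : Function.Surjective e := (MulAut.conjNormal g).surjective
  have hn : ((Cfsg.pCore p ↥K).map e).Normal := (pCore_normal p _).map _ hsurj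
  have hle : (Cfsg.pCore p ↥K).map e ≤ Cfsg.pCore p ↥K := by
    rw [Cfsg.pCore, sSup_eq_iSup, Subgroup.map_iSup]
    refine iSup_le fun N => ?_
    rw [Subgroup.map_iSup]
    refine iSup_le fun hN => ?_
    exact le_iSup_of_le (N.map e) (le_iSup_of_le ⟨hN.1.map _ hsurj, hN.2.map _⟩ le_rfl)
  refine ⟨e y, hle (mem_map_of_mem _ hy), ?_⟩
  exact MulAut.conjNormal_apply g y

/-- Subnormal `p`-subgroups lie in the `p`-core. -/
theorem pCore_map_subtype_le [Finite G] {K : Subgroup G} (hK : K.IsSubnormal) :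
    (Cfsg.pCore p ↥K).map K.subtype ≤ Cfsg.pCore p G := by
  induction hK with
  | top =>
    exact le_pCore (pCore_map_subtype_normal inferInstance p) ((isPGroup_pCore p).map _)
  | step A B hle _ hN ih =>
    refine le_trans ?_ ih
    have h1 : ((Cfsg.pCore p ↥(A.subgroupOf B)).map (A.subgroupOf B).subtype) ≤
        Cfsg.pCore p ↥B :=
      le_pCore (pCore_map_subtype_normal hN p) ((isPGroup_pCore p).map _)
    refine le_trans ?_ (map_mono h1)
    let e : ↥(A.subgroupOf B) ≃* ↥A := subgroupOfEquivOfLe hle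
    rintro _ ⟨a, ha, rfl⟩
    refine ⟨(A.subgroupOf B).subtype (e.symm a), mem_map_of_mem _ ?_, rfl⟩
    have h2 : (Cfsg.pCore p ↥A).map e.symm.toMonoidHom ≤ Cfsg.pCore p ↥(A.subgroupOf B) :=
      le_pCore ((pCore_normal p _).map _ e.symm.surjective) ((isPGroup_pCore p).map _)
    exact h2 (mem_map_of_mem _ ha)

theorem le_pCore_of_isSubnormal [Finite G] {P : Subgroup G} (hP : P.IsSubnormal)
    (hp : IsPGroup p ↥P) : P ≤ Cfsg.pCore p G := by
  refine le_trans ?_ (pCore_map_subtype_le hP)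
  intro x hx
  exact ⟨⟨x, hx⟩, le_pCore inferInstance (hp.to_subgroup ⊤) (mem_top _), rfl⟩

/-- If every element of `C` stabilises a chain `Q ≥ A ≥ 1` of a `p`-group `Q`,
then a power of it with exponent a power of `p` centralises `Q`. -/
theorem pMod_of_stabilizes [Finite G] [Fact p.Prime] {Q A C : Subgroup G} (hQ : IsPGroup p ↥Q)
    (hAQ : A ≤ Q) (hA : C ≤ centralizer (A : Set G))
    (h : ∀ c ∈ C, ∀ q ∈ Q, c * q * c⁻¹ * q⁻¹ ∈ A) : pMod p (centralizer (Q : Set G)) C := by
  obtain ⟨n, hn⟩ := IsPGroup.iff_card.1 hQ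
  intro c hc
  refine ⟨n, fun q hq => ?_⟩
  set a := c * q * c⁻¹ * q⁻¹ with ha
  have hca : c * a = a * c := (hA hc a (h c hc q hq)).symm
  have hpow : ∀ m : ℕ, c ^ m * q = a ^ m * q * c ^ m := by
    intro m
    induction m with
    | zero => simp
    | succ m ih =>
      have hcq : c * q = a * q * c := by rw [ha]; group
      have hc' : c * a ^ m = a ^ m * c := (Commute.pow_right hca m)
      calc c ^ (m + 1) * q = c * (c ^ m * q) := by rw [pow_succ']; group
        _ = c * a ^ m * q * c ^ m := by rw [ih]; group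
        _ = a ^ m * (c * q) * c ^ m := by rw [hc']; group
        _ = a ^ (m + 1) * q * c ^ (m + 1) := by rw [hcq, pow_succ a, pow_succ' c]; group
  have han : a ^ p ^ n = 1 := by
    rw [← hn]
    exact congrArg Subtype.val (pow_card_eq_one' (x := (⟨a, hAQ (h c hc q hq)⟩ : ↥Q)))
  rw [hpow, han, one_mul]

/-- Normal subgroups of a group of characteristic `p` have characteristic `p`. -/
theorem centralizer_pCore_inf_le [Finite G] [Fact p.Prime]
    (hG : centralizer (Cfsg.pCore p G : Set G) ≤ Cfsg.pCore p G) (L : Subgroup G) [L.Normal] :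
    L ⊓ centralizer ((Cfsg.pCore p G ⊓ L : Subgroup G) : Set G) ≤ Cfsg.pCore p G := by
  have := pCore_normal p G
  refine le_pCore inferInstance ?_
  have hmod := pMod_of_stabilizes (C := L ⊓ centralizer ((Cfsg.pCore p G ⊓ L : Subgroup G) : Set G))
    (isPGroup_pCore (G := G) p) (A := Cfsg.pCore p G ⊓ L) inf_le_left inf_le_right
    (fun c hc q hq => by
      refine mem_inf.2 ⟨?_, ?_⟩
      · exact mul_mem ((pCore_normal p G).conj_mem q hq c) (inv_mem hq)
      rw [mul_assoc, mul_assoc, ← mul_assoc q]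
      have hcL : c ∈ L := (mem_inf.1 hc).1
      exact mul_mem hcL (‹L.Normal›.conj_mem _ (inv_mem hcL) q))
  intro x
  obtain ⟨k, hk⟩ := hmod x x.2
  obtain ⟨l, hl⟩ := isPGroup_pCore (G := G) p ⟨_, hG hk⟩
  refine ⟨k + l, Subtype.ext ?_⟩
  have h2 : ((x : G) ^ p ^ k) ^ p ^ l = 1 := by simpa [Subtype.ext_iff] using hl
  simp [pow_add, pow_mul, h2]

theorem pMod_sup {C N : Subgroup G} [C.Normal] (h : pMod p C N) : pMod p C (N ⊔ C) := by
  intro x hx
  have hx' : x ∈ ((N ⊔ C : Subgroup G) : Set G) := hx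
  rw [mul_normal] at hx'
  obtain ⟨n, hn, c, hc, rfl⟩ := Set.mem_mul.1 hx'
  obtain ⟨k, hk⟩ := h n hn
  refine ⟨k, ?_⟩
  rw [← QuotientGroup.eq_one_iff] at hk ⊢
  rw [QuotientGroup.mk_pow, QuotientGroup.mk_mul, (QuotientGroup.eq_one_iff c).2 hc, mul_one,
    ← QuotientGroup.mk_pow, hk]

theorem pMod.trans {C D N : Subgroup G} (h₁ : pMod p C N) (h₂ : pMod p D C) : pMod p D N := by
  intro x hx
  obtain ⟨k, hk⟩ := h₁ x hx
  obtain ⟨l, hl⟩ := h₂ _ hk
  exact ⟨k + l, by rw [pow_add, pow_mul]; exact hl⟩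

/-- A coprime element splits the fixed points: `v = a * k`. -/
theorem exists_coprime_decomp [Finite G] {V : Subgroup G} (hV : Cfsg.IsElementaryAbelian p V)
    {y : G} (hy : y ∈ normalizer (V : Set G)) (hco : (orderOf y).Coprime p) {v : G} (hv : v ∈ V) :
    ∃ a k : G, a ∈ V ∧ y * a = a * y ∧ k ∈ V ∧
      k ∈ closure {c : G | ∃ u ∈ zpowers y, c = u * v * u⁻¹ * v⁻¹} ∧ v = a * k := by
  obtain ⟨a, k, ha, hay, hk, -, hkc, rfl⟩ := exists_trace_decomp (S := ⊥) (X := zpowers y) hV
    (zpowers_le.2 hy) bot_le (by rw [relIndex_bot_left, Nat.card_zpowers]; exact hco) hv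
    (fun s hs => by rw [mem_bot.1 hs]; simp)
  exact ⟨a, k, ha, hay y (mem_zpowers y), hk, hkc, rfl⟩

theorem subnormal_le_of_pCore_quotient_eq_bot [Finite G] {C N : Subgroup G} [C.Normal]
    (hC : Cfsg.pCore p (G ⧸ C) = ⊥) (hN : N.IsSubnormal) (hmod : pMod p C N) : N ≤ C := by
  have h1 := le_pCore_of_isSubnormal (hN.map (QuotientGroup.mk'_surjective C))
    (isPGroup_map_mk_iff.2 hmod)
  rw [hC, le_bot_iff, Subgroup.map_eq_bot_iff, QuotientGroup.ker_mk'] at h1
  exact h1

end Cfsg.Agent.PReduced
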