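/-
`p`-reduced normal subgroups of subgroups: transport lemmas.
* `omega_center_map`, `relIndex_coprime_of_normalized`, `largest_spec`, `largestOf_*`,
  `isPReducedNormal_transfer`, `mem_mul_of_le_normalizer`.
-/
import Cfsg.Agent.Lib.PReduced.Tools
import Cfsg.Agent.Lib.Cores.Subnormal

namespace Cfsg.Agent.PReduced

open Subgroup

variable {G : Type*} [Group G] {p : ℕ}

theorem omega_center_map {K : Subgroup G} (S : Subgroup ↥K) :
    (Cfsg.omegaOne p (S ⊓ centralizer (S : Set ↥K))).map K.subtype =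
      Cfsg.omegaOne p (S.map K.subtype ⊓ centralizer ((S.map K.subtype : Subgroup G) : Set G)) := by
  ext x
  rw [mem_omegaOne_center]
  constructor
  · rintro ⟨y, hy, rfl⟩
    obtain ⟨h1, h2, h3⟩ := mem_omegaOne_center.1 hy
    refine ⟨mem_map_of_mem _ h1, ?_, by simpa using congrArg Subtype.val h3⟩
    rintro _ ⟨t, ht, rfl⟩
    exact congrArg Subtype.val (h2 t ht)
  · rintro ⟨⟨y, hy, rfl⟩, h2, h3⟩
    exact ⟨y, mem_omegaOne_center.2 ⟨hy, fun t ht => Subtype.ext (h2 _ (mem_map_of_mem _ ht)),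
      Subtype.ext (by simpa using h3)⟩, rfl⟩

theorem relIndex_coprime_of_normalized [Finite G] [Fact p.Prime] (T : Sylow p G) {C : Subgroup G}
    (hT : (T : Subgroup G) ≤ normalizer (C : Set G)) :
    ((T : Subgroup G).relIndex C).Coprime p := by
  set J := normalizer (C : Set G)
  have hC : C ≤ J := le_normalizer
  haveI : (C.subgroupOf J).Normal := normal_in_normalizer
  have h := sylow_relIndex_coprime (T.subtype hT) (C.subgroupOf J)
  rwa [Sylow.coe_subtype, relIndex_subgroupOf hC] at h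

theorem exists_sylow_inf [Finite G] [Fact p.Prime] (T : Sylow p G) {C : Subgroup G}
    (hT : (T : Subgroup G) ≤ normalizer (C : Set G)) :
    ∃ P : Sylow p ↥C, (P : Subgroup ↥C) = (T : Subgroup G).subgroupOf C :=
  ⟨IsPGroup.toSylow (IsPGroup.comap_subtype T.2)
    ((Fact.out : p.Prime).coprime_iff_not_dvd.1 (relIndex_coprime_of_normalized T hT).symm), rfl⟩

theorem mem_mul_of_le_normalizer {A B : Subgroup G} (h : A ≤ normalizer (B : Set G)) {x : G}
    (hx : x ∈ A ⊔ B) : ∃ a ∈ A, ∃ b ∈ B, x = a * b := by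
  have hx' : x ∈ ((A ⊔ B : Subgroup G) : Set G) := hx
  rw [coe_mul_of_left_le_normalizer_right A B h] at hx'
  obtain ⟨a, ha, b, hb, rfl⟩ := Set.mem_mul.1 hx'
  exact ⟨a, ha, b, hb, rfl⟩

theorem le_normalizer_centralizer {A Y : Subgroup G} (h : A ≤ normalizer (Y : Set G)) :
    A ≤ normalizer (centralizer (Y : Set G) : Set G) := by
  intro a ha
  rw [mem_normalizer_iff]
  have key : ∀ b ∈ A, ∀ x ∈ centralizer (Y : Set G), b * x * b⁻¹ ∈ centralizer (Y : Set G) := by
    intro b hb x hx y hy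
    have hy' : b⁻¹ * y * b ∈ Y := by
      simpa using (mem_normalizer_iff.1 (h (inv_mem hb)) y).1 hy
    calc y * (b * x * b⁻¹) = b * ((b⁻¹ * y * b) * x) * b⁻¹ := by group
      _ = b * (x * (b⁻¹ * y * b)) * b⁻¹ := by rw [hx _ hy']
      _ = b * x * b⁻¹ * y := by group
  exact fun x => ⟨key a ha x, fun hx => by simpa [mul_assoc] using key a⁻¹ (inv_mem ha) _ hx⟩

variable [Finite G]

theorem largestOf_normalized (L : Subgroup G) :
    L ≤ normalizer ((Cfsg.largestPReducedOf p L : Subgroup G) : Set G) := by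
  haveI := (largestPReduced_isPReducedNormal (G := ↥L) p).1
  have h2 := Subgroup.le_normalizer_map L.subtype (H := Cfsg.largestPReduced p ↥L)
  rw [normalizer_eq_top (Cfsg.largestPReduced p ↥L), ← MonoidHom.range_eq_map, range_subtype] at h2
  exact h2

theorem largestOf_le (L : Subgroup G) : Cfsg.largestPReducedOf p L ≤ L := map_subtype_le _

theorem largestOf_isElementaryAbelian (L : Subgroup G) :
    Cfsg.IsElementaryAbelian p (Cfsg.largestPReducedOf p L) := by
  have h := (largestPReduced_isPReducedNormal (G := ↥L) p).2.1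
  refine ⟨isMulCommutative_of_forall ?_, ?_⟩
  · rintro _ ⟨a, ha, rfl⟩ _ ⟨b, hb, rfl⟩
    exact congrArg L.subtype (commute_of_isMulCommutative h.1 ha hb)
  · rintro _ ⟨a, ha, rfl⟩
    simpa using congrArg L.subtype (h.2 a ha)

theorem largestOf_le_sylow [Fact p.Prime] (T : Sylow p G) {L : Subgroup G}
    (hTL : (T : Subgroup G) ≤ L) : Cfsg.largestPReducedOf p L ≤ (T : Subgroup G) := by
  have h := largestPReduced_isPReducedNormal (G := ↥L) p
  have h1 := (le_pCore h.1 (isPGroup_of_isElementaryAbelian h.2.1)).trans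
    (pCore_le_sylow (T.subtype hTL))
  rw [Sylow.coe_subtype] at h1
  rintro _ ⟨x, hx, rfl⟩
  exact h1 hx

theorem le_largestOf {L : Subgroup G} {V : Subgroup G} (hVL : V ≤ L)
    (hV : Cfsg.IsPReducedNormal p (V.subgroupOf L)) : V ≤ Cfsg.largestPReducedOf p L := by
  intro x hx
  exact ⟨⟨x, hVL hx⟩, le_largestPReduced hV hx, rfl⟩

theorem subgroupOf_isElementaryAbelian {L V : Subgroup G} (hel : Cfsg.IsElementaryAbelian p V) :
    Cfsg.IsElementaryAbelian p (V.subgroupOf L) :=
  ⟨isMulCommutative_of_forall fun _ ha _ hb => Subtype.ext (commute_of_isMulCommutative hel.1 ha hb),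
    fun a ha => Subtype.ext (by simpa using hel.2 _ ha)⟩

/-- Being `p`-reduced only depends on `L C(Y)`. -/
theorem isPReducedNormal_transfer {L M Y : Subgroup G} (hL : L ≤ normalizer (Y : Set G))
    (hM : M ≤ normalizer (Y : Set G)) (hYL : Y ≤ L) (hYM : Y ≤ M)
    (h : L ⊔ centralizer (Y : Set G) = M ⊔ centralizer (Y : Set G))
    (hred : Cfsg.IsPReducedNormal p (Y.subgroupOf M)) :
    Cfsg.IsPReducedNormal p (Y.subgroupOf L) := by
  obtain ⟨-, hel, hq⟩ := isPReducedNormal_iff.1 hred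
  have hel' : Cfsg.IsElementaryAbelian p Y := by
    refine ⟨isMulCommutative_of_forall fun a ha b hb =>
      congrArg Subtype.val (commute_of_isMulCommutative hel.1 (a := (⟨a, hYM ha⟩ : ↥M))
        (b := ⟨b, hYM hb⟩) ha hb), fun a ha => ?_⟩
    simpa using congrArg Subtype.val (hel.2 ⟨a, hYM ha⟩ ha)
  refine isPReducedNormal_iff.2 ⟨(normal_subgroupOf_iff_le_normalizer hYL).2 hL,
    subgroupOf_isElementaryAbelian hel', fun N hN hmod => ?_⟩
  set C := centralizer (Y : Set G) with hC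
  have hLC : L ≤ normalizer (C : Set G) := le_normalizer_centralizer hL
  have hLN : L ≤ normalizer ((N.map L.subtype : Subgroup G) : Set G) := by
    haveI := hN
    have h2 := Subgroup.le_normalizer_map L.subtype (H := N)
    rw [normalizer_eq_top N, ← MonoidHom.range_eq_map, range_subtype] at h2
    exact h2
  set K := N.map L.subtype ⊔ C with hK
  have hJK : M ⊔ C ≤ normalizer (K : Set G) := by
    rw [← h]
    refine sup_le ((le_inf hLN hLC).trans (Cores.normalizer_inf_le_normalizer_sup _ _)) ?_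
    exact le_sup_right.trans le_normalizer
  have hmodK : pMod p C (N.map L.subtype) := by
    rintro _ ⟨x, hx, rfl⟩
    obtain ⟨k, hk⟩ := hmod x hx
    exact ⟨k, fun y hy => congrArg Subtype.val (hk ⟨y, hYL hy⟩ hy)⟩
  have hK' : ((K ⊓ M).subgroupOf M) ≤ centralizer ((Y.subgroupOf M : Subgroup ↥M) : Set ↥M) := by
    refine hq _ ((normal_subgroupOf_iff_le_normalizer inf_le_right).2
      ((le_inf (le_sup_left.trans hJK) le_normalizer).trans inf_normalizer_le_normalizer_inf)) ?_
    intro x hx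
    obtain ⟨n, hn, c, hc, e⟩ := mem_mul_of_le_normalizer ((map_subtype_le N).trans hLC) (mem_inf.1 hx).1
    obtain ⟨k, hk⟩ := hmodK n hn
    refine ⟨k, fun y hy => Subtype.ext ?_⟩
    let J := normalizer (C : Set G)
    have hnJ : n ∈ J := ((map_subtype_le N).trans hLC) hn
    have hcJ : c ∈ J := le_normalizer hc
    haveI : (C.subgroupOf J).Normal := normal_in_normalizer
    let π := QuotientGroup.mk' (C.subgroupOf J)
    have h1 : π ((⟨n, hnJ⟩ * ⟨c, hcJ⟩ : ↥J) ^ p ^ k) = 1 := by
      rw [map_pow, map_mul,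
        show π ⟨c, hcJ⟩ = 1 from (QuotientGroup.eq_one_iff _).2 (mem_subgroupOf.2 hc), mul_one,
        ← map_pow]
      exact (QuotientGroup.eq_one_iff _).2 (mem_subgroupOf.2 hk)
    have h2 : (n * c) ^ p ^ k ∈ C := mem_subgroupOf.1 ((QuotientGroup.eq_one_iff _).1 h1)
    rw [← e] at h2
    exact h2 (y : G) hy
  intro n hn y hy
  have hnJ : (n : G) ∈ M ⊔ C := h ▸ mem_sup_left n.2
  obtain ⟨m, hm, c, hc, e⟩ := mem_mul_of_le_normalizer
    (le_normalizer_centralizer hM) hnJ
  have hmK : m ∈ K := by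
    have : m = (n : G) * c⁻¹ := by rw [e, mul_inv_cancel_right]
    rw [this]
    exact mul_mem (mem_sup_left (mem_map_of_mem _ hn)) (mem_sup_right (inv_mem hc))
  have hmC : m ∈ C := fun u hu => congrArg Subtype.val
    (hK' (show (⟨m, hm⟩ : ↥M) ∈ (K ⊓ M).subgroupOf M from mem_inf.2 ⟨hmK, hm⟩) ⟨u, hYM hu⟩ hu)
  have hnC : (n : G) ∈ C := e ▸ mul_mem hmC hc
  exact Subtype.ext (hnC (y : G) hy)

end Cfsg.Agent.PReduced
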